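import Groth.Agent.DualCxLib.FinLen
import Groth.Agent.DTenLib.BCBound
import Groth.Agent.RHomCompLib.Compare

/-!
# Biduality for complexes with finite cohomology
-/

set_option autoImplicit false
set_option linter.all false
set_option maxHeartbeats 1000000

universe u

open CategoryTheory CategoryTheory.Limits CategoryTheory.Pretriangulated MonoidalCategory
open Groth.Agent DTen DTenLib
open Groth.Agent.DualCxLib
open DTenLib.Point (hH sg)

attribute [local instance] HasDerivedCategory.standard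

noncomputable section

namespace BidualUnbLib

variable {A : Type u} [CommRing A] [IsNoetherianRing A]
variable [HasLTen A] [HasLTen₃ A] [IsSymMonoidal A] [HasRHom A]

theorem finite_RHom {ω : Dual.D A} (hω : Dual.IsDualizing A ω) {K : Dual.D A}
    (hK : ∀ i, Module.Finite A ((hH A i).obj K)) (i : ℤ) : Module.Finite A ((hH A i).obj ((RHomR A K).obj ω)) := by
  haveI := finite_hom hK hω.finite_cohomology (hasFiniteInjDim_of_ext hω.finite_injective_dimension) i
  obtain ⟨e⟩ := nonempty_tensor_shiftUnit K (-i)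
  obtain ⟨u⟩ := nonempty_unit_iso (A := A)
  let R := (RHomR A K).obj ω
  let Φ : (Dual.inD A A ⟶ R⟦i⟧) ≃ₗ[A] (K ⟶ ω⟦i⟧) :=
    ((precompL u.symm (R⟦i⟧)).trans (shiftL (unit A) R i).symm).trans
      (((homLEquiv _ _ _).symm.trans (precompL e ω)).trans (shiftL K ω i))
  exact Module.Finite.equiv (Φ.symm.trans (extHL R i))

theorem isIso_evalHom {ω : Dual.D A} (hω : Dual.IsDualizing A ω) {K : Dual.D A}
    (hK : ∀ i, Module.Finite A ((hH A i).obj K)) : IsIso (evalHom K ω ω) := by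
  obtain ⟨a, b, hM⟩ := hasFiniteInjDim_of_ext hω.finite_injective_dimension
  obtain ⟨a', ha'⟩ := isGE_dualizing hω
  obtain ⟨u⟩ := nonempty_RHom_self hω
  let F := (LTen A).obj ((RHomR A ω).obj ω)
  let G := ((RHom A).flip.obj ω).rightOp ⋙ (RHom A).flip.obj ω
  have hF : HomExact F := homExact_LTen_obj _
  have hG : HomExact G := fun T hT => HomExactOp.map_isTri (F := (RHom A).flip.obj ω)
    (fun T' hT' => homExact_id.map_isTri (isTri_RHom ω T' hT')) (isTri_RHom ω T hT)
  let τ : F ⟶ G := evalHomNat ω ω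
  refine isIso_of_bijective_unit _ fun j => ?_
  show Function.Bijective fun g : (unit A)⟦j⟧ ⟶ F.obj K => g ≫ τ.app K
  haveI hu : ((unit A)⟦j⟧).IsLE (-j) := isLE_shiftUnit A j
  let m : ℤ := max (-j) (-j + b - a')
  obtain ⟨K', C, hK', hC, f, h, d, hT⟩ := DerivedCategory.TStructure.t.exists_triangle K m (m + 1) rfl
  haveI hK'le : K'.IsLE m := ⟨hK'⟩
  haveI hCge : C.IsGE (m + 1) := ⟨hC⟩
  have hfin' : ∀ i, Module.Finite A ((hH A i).obj K') := fun i => by
    by_cases hi : i ≤ m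
    · have hm : Mono ((hH A i).map f) := (DerivedCategory.HomologySequence.mono_homologyMap_mor₁_iff _ hT (i - 1) i (by omega)).mpr
        ((DerivedCategory.isZero_of_isGE C (m + 1) (i - 1) (by omega)).eq_of_src _ _)
      haveI := hK i
      exact Module.Finite.of_injective ((hH A i).map f).hom ((ModuleCat.mono_iff_injective _).1 hm)
    · haveI := ModuleCat.subsingleton_of_isZero (DerivedCategory.isZero_of_isLE K' m i (by omega))
      infer_instance
  haveI hτ : IsIso (τ.app K') := isIso_evalHom_of_isPseudoCoherent K' ω ω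
    (isPseudoCoherent'_of_finite m (fun i hi => DerivedCategory.isZero_of_isLE K' m i hi) hfin') a' ha' ⟨a, b, hM⟩
  have hFv : ∀ (X : Dual.D A), X.IsGE (m + 1) → ∀ x : (unit A)⟦j⟧ ⟶ F.obj X, x = 0 := fun X hX x => by
    let eX : F.obj X ≅ X := (tensorRightD A X).mapIso u.symm ≪≫ DTen.leftUnitor X
    rw [← cancel_mono eX.hom, zero_comp]
    exact DerivedCategory.TStructure.t.zero _ (-j) (m + 1) (by omega)
  have hGC : ∀ x : (unit A)⟦j⟧ ⟶ G.obj C, x = 0 := fun x => by
    exact DerivedCategory.TStructure.t.zero_of_isLE_of_isGE x (-j) (a' - (b - (m + 1))) (by omega) hu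
      (isGE_RHom (isLE_RHom hM hCge) ha')
  have hC' : (C⟦(-1 : ℤ)⟧).IsGE (m + 2) :=
    DerivedCategory.TStructure.t.isGE_shift C (m + 1) (-1) (m + 2) (by omega)
  have hGC' : ∀ x : (unit A)⟦j⟧ ⟶ G.obj (C⟦(-1 : ℤ)⟧), x = 0 := fun x =>
    DerivedCategory.TStructure.t.zero_of_isLE_of_isGE x (-j) (a' - (b - (m + 2))) (by omega) hu
      (isGE_RHom (isLE_RHom hM hC') ha')
  let T := Triangle.mk f h d
  constructor
  · intro z z' hzz
    rw [← sub_eq_zero]
    have hz : (z - z') ≫ τ.app K = 0 := by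
      rw [Preadditive.sub_comp, sub_eq_zero]
      exact hzz
    obtain ⟨x, hx⟩ := (hF T hT).2 _ (z - z') (hFv C hCge _)
    change x ≫ F.map f = z - z' at hx
    have hx' : (x ≫ τ.app _) ≫ G.map f = 0 := by
      rw [Category.assoc, ← τ.naturality, ← Category.assoc, hx, hz]
    obtain ⟨w, hw⟩ := (hG _ (inv_rot_of_distTriang _ hT)).2 _ (x ≫ τ.app _) hx'
    have hxE : x ≫ τ.app K' = 0 := hw.symm.trans
      ((congrArg (fun t => CategoryStruct.comp t (G.map T.invRotate.mor₁)) (hGC' w)).trans zero_comp)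
    have hx0 : x = 0 := (cancel_mono (τ.app K')).1 (hxE.trans zero_comp.symm)
    rw [← hx, hx0, zero_comp]
  · intro y
    obtain ⟨x, hx⟩ : ∃ x : (unit A)⟦j⟧ ⟶ G.obj K', x ≫ G.map f = y := (hG T hT).2 _ y (hGC _)
    obtain ⟨i, -, hi⟩ := hτ.out
    refine ⟨(x ≫ i) ≫ F.map f, ?_⟩
    show (_ ≫ F.map f) ≫ τ.app K = y
    rw [Category.assoc, τ.naturality, Category.assoc, reassoc_of% hi, hx]

theorem nonempty_biduality {ω : Dual.D A} (hω : Dual.IsDualizing A ω) {K : Dual.D A}
    (hK : ∀ i, Module.Finite A ((hH A i).obj K)) :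
    Nonempty ((RHomR A ((RHomR A K).obj ω)).obj ω ≅ K) := by
  haveI := isIso_evalHom hω hK
  obtain ⟨u⟩ := nonempty_RHom_self hω
  exact ⟨(asIso (evalHom K ω ω)).symm ≪≫ (tensorRightD A K).mapIso u.symm ≪≫ DTen.leftUnitor K⟩

theorem main {ω : Dual.D A} (hω : Dual.IsDualizing A ω) (K : DRing.Cx A) [DRing.HasRHomCx K]
    (hK : ∀ i : ℤ, Module.Finite A (Dual.HD A (DRing.toD K) i)) :
    (∀ i : ℤ, Module.Finite A (Dual.HD A ((DRing.RHomCx K).obj ω) i)) ∧
      ∀ (E : DRing.Cx A) [DRing.HasRHomCx E], Nonempty (DRing.toD E ≅ (DRing.RHomCx K).obj ω) →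
        Nonempty ((DRing.RHomCx E).obj ω ≅ DRing.toD K) := by
  obtain ⟨eK⟩ := RHomCompLib.nonempty_RHomCx_iso K
  refine ⟨fun i => ?_, fun E _ hE => ?_⟩
  · haveI := finite_RHom hω (K := DRing.toD K) hK i
    exact Module.Finite.equiv ((hH A i).mapIso (eK.app ω)).symm.toLinearEquiv
  · obtain ⟨eE⟩ := RHomCompLib.nonempty_RHomCx_iso E
    obtain ⟨e⟩ := hE
    obtain ⟨B⟩ := nonempty_biduality hω (K := DRing.toD K) hK
    let e' : DerivedCategory.Q.obj E ≅ (RHomR A (DerivedCategory.Q.obj K)).obj ω := e ≪≫ eK.app ω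
    exact ⟨eE.app ω ≪≫ ((RHom A).flip.obj ω).mapIso e'.symm.op ≪≫ B⟩

end BidualUnbLib
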